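import Cfsg.Agent.H152.Dl.OrthF
import Cfsg.Agent.H158.DlRows
import Cfsg.Agent.H321.Dl.PslRow
import Cfsg.Agent.H519.Dl.PsuRow
import Cfsg.Agent.H362.Dl.RowPsp
import Cfsg.Agent.H279.Dl.Sp2
import Cfsg.Agent.S1163

/-!
# S4769: the fields `l2`, `ln`, `psp`, `psu`, `odd`, `plus`, `minus`, `sz`, `ree` of `H759.Dl.Missing` (helper152)
-/

set_option autoImplicit false

namespace Cfsg.Agent.H152.Dl

open Cfsg
open Cfsg.Agent.H246.Dl Cfsg.Agent.H596.OneFacts Cfsg.Agent.H759.Dl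

universe u

theorem not_comm_of_not_prime {S : Type u} [Group S] [Finite S] [IsSimpleGroup S] (h : ¬ (Nat.card S).Prime) :
    ¬ IsMulCommutative S := by
  intro hc
  apply h
  let _ : CommGroup S := { mul_comm := hc.is_comm.comm }
  exact IsSimpleGroup.prime_card

theorem not_prime_mul {a b : ℕ} (ha : 2 ≤ a) (hb : 2 ≤ b) : ¬ (a * b).Prime :=
  Nat.not_prime_mul (by omega) (by omega)

section l2

variable {F : Type} [Field F] [Fintype F]

theorem not_prime_psl_two (h4 : 4 ≤ Fintype.card F) :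
    ¬ (Nat.card (Matrix.ProjectiveSpecialLinearGroup (Fin 2) F)).Prime := by
  set q := Fintype.card F with hq
  have h1 : 2 ≤ q ^ 2 - 1 := by
    have : 4 ^ 2 ≤ q ^ 2 := Nat.pow_le_pow_left h4 2
    omega
  rcases Nat.even_or_odd q with he | ho
  · rw [SmallSimple.PSLTwoPart.card_psl_two_even (F := F) he]
    exact not_prime_mul (by omega) h1
  · have h2 := SmallSimple.PSLTwoPart.card_psl_two_odd (F := F) ho
    rw [← hq] at h2
    intro hp
    have h3 : q ∣ 2 * Nat.card (Matrix.ProjectiveSpecialLinearGroup (Fin 2) F) := ⟨_, h2⟩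
    have h4' : Nat.Coprime q 2 := Nat.Coprime.symm ((Nat.coprime_two_left).2 ho)
    have h5 : q ∣ Nat.card (Matrix.ProjectiveSpecialLinearGroup (Fin 2) F) := h4'.dvd_of_dvd_mul_left h3
    rcases (Nat.dvd_prime hp).1 h5 with h6 | h6
    · omega
    · rw [← h6, mul_comm] at h2
      have h7 : 2 = q ^ 2 - 1 := Nat.eq_of_mul_eq_mul_left (by omega) h2
      have : 4 ^ 2 ≤ q ^ 2 := Nat.pow_le_pow_left h4 2
      omega

theorem dl_psl_two_ne {p : ℕ} (hp : p.Prime) (hd : ¬ p ∣ Fintype.card F) :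
    DlLe p 2 (Matrix.ProjectiveSpecialLinearGroup (Fin 2) F) := by
  have : Fact p.Prime := ⟨hp⟩
  have hpF : (p : F) ≠ 0 := by
    intro h
    obtain ⟨r, hr⟩ := CharP.exists F
    have hpr : r.Prime := (CharP.char_is_prime_or_zero F r).resolve_right (CharP.char_ne_zero_of_finite F r)
    have : Fact r.Prime := ⟨hpr⟩
    have h1 : r ∣ p := (CharP.cast_eq_zero_iff F r p).1 h
    obtain rfl := (Nat.prime_dvd_prime_iff_eq hpr hp).1 h1
    obtain ⟨n, -, hn⟩ := FiniteField.card F r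
    rw [hn] at hd
    exact hd (dvd_pow_self r n.ne_zero)
  have h1 := H755.Dl.DlLe_ne (p := p) (F := F) (n := 2) (G := Matrix.SpecialLinearGroup (Fin 2) F)
    (f := QuotientGroup.mk' (Subgroup.center (Matrix.SpecialLinearGroup (Fin 2) F)))
    (ρ := Matrix.SpecialLinearGroup.toGL) hpF (QuotientGroup.mk'_surjective _)
    Matrix.SpecialLinearGroup.toGL_injective
  exact DlLe.mono h1 (by
    have : Nat.log p 2 ≤ Nat.log 2 2 := Nat.log_anti_left (by norm_num) hp.two_le
    have h2 : Nat.log 2 2 = 1 := by decide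
    omega)

end l2

theorem f_l2 (T : FactTwo.{u}) (I : H671.H5.FactIM.{u}) : RowF.{u} (fun S => H671.H5.IsL2 S) := by
  intro S _ _ _ h p hp hd
  obtain ⟨F, _, _, h4, ⟨e⟩⟩ := h
  have : Fact p.Prime := ⟨hp⟩
  have hc : ¬ IsMulCommutative S := not_comm_of_not_prime (by
    rw [Nat.card_congr e.toEquiv]
    exact not_prime_psl_two h4)
  by_cases hF : p ∣ Fintype.card F
  · exact own_l2 I hc e hp hF hd
  · exact row_of_dl_two T I hc hp hd ((dl_psl_two_ne hp hF).of_equiv e)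

theorem f_ln : RowF.{u} (fun S => IsLn S) := by
  intro S _ _ _ h p hp hd
  obtain ⟨F, _, _, n, hn, ⟨e⟩⟩ := h
  by_cases hF : p ∣ Fintype.card F
  · exact own_psl hn e hp hF
  · exact H321.Dl.PslRow.row_psl_ne hn e hp hd hF

theorem f_psp (T : FactTwo.{u}) (I : H671.H5.FactIM.{u}) : RowF.{u} (fun S => IsPSp S) := by
  intro S _ _ _ h p hp hd
  obtain ⟨F, _, _, m, hm, h3, ⟨e⟩⟩ := h
  by_cases hF : p ∣ Fintype.card F
  · rcases Nat.lt_or_ge 2 (Fintype.card F) with h2 | h2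
    · exact own_psp hm h2 e hp hF
    · have h1 : 1 < Fintype.card F := Fintype.one_lt_card
      have h4 : Fintype.card F = 2 := by omega
      have hm3 : 3 ≤ m := by
        rcases Nat.lt_or_ge m 3 with h | h
        · have := h3 (by omega)
          omega
        · exact h
      rw [h4] at hF
      obtain rfl := (Nat.prime_dvd_prime_iff_eq hp Nat.prime_two).1 hF
      exact H279.Dl.row_sp_two (by rw [Nat.card_eq_fintype_card, h4]) hm3 e
  · exact H362.Dl.row_psp_ne T I hm (fun h => by rw [Nat.card_eq_fintype_card]; exact h3 h) e hp hd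
      (by rwa [Nat.card_eq_fintype_card])

theorem f_psu (T : FactTwo.{u}) (I : H671.H5.FactIM.{u}) : RowF.{u} (fun S => IsPSU S) := by
  intro S _ _ _ h p hp hd
  obtain ⟨F, _, _, n, q, hF, hn, hnq, ⟨e⟩⟩ := h
  by_cases hq : p ∣ q
  · have hd' : p ∣ Fintype.card F := hF ▸ dvd_pow hq (by norm_num)
    rcases Nat.lt_or_ge n 4 with h4 | h4
    · obtain rfl : n = 3 := by omega
      refine own_u3 T I (fun h1 => H519.Dl.not_comm (F := F) hF hn ⟨⟨fun a b => e.symm.injective ?_⟩⟩) e hp hd' hd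
      rw [map_mul, map_mul]
      exact h1.is_comm.comm _ _
    · exact own_psu hF h4 e hp hd'
  · exact H519.Dl.row_psu_ne_all T I hF hn e hp hd hq

theorem f_odd (T : FactTwo.{u}) (I : H671.H5.FactIM.{u}) : RowF.{u} (fun S => IsPOmegaOdd S) := rowF_odd T I

theorem f_plus (T : FactTwo.{u}) (I : H671.H5.FactIM.{u}) : RowF.{u} (fun S => IsPOmegaPlus S) := rowF_plus T I

theorem f_minus (T : FactTwo.{u}) (I : H671.H5.FactIM.{u}) : RowF.{u} (fun S => IsPOmegaMinus S) := rowF_minus T I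

theorem f_sz (T : FactTwo.{u}) (I : H671.H5.FactIM.{u}) : RowF.{u} (fun S => Lie.IsoSuzuki S) := by
  intro S _ _ _ h p hp hd
  have : Fact p.Prime := ⟨hp⟩
  have hS := h
  obtain ⟨F, _, _, m, hm, hF, ⟨e⟩⟩ := h
  have hc : ¬ IsMulCommutative S := not_comm_of_not_prime (by
    rw [Nat.card_congr e.toEquiv, (Cfsg.Agent.S1163.result (F := F) hm hF).1]
    have h1 : 2 ≤ (2 : ℕ) ^ (2 * m + 1) := by
      calc 2 = 2 ^ 1 := by norm_num
        _ ≤ 2 ^ (2 * m + 1) := Nat.pow_le_pow_right (by norm_num) (by omega)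
    have h8 : 8 ≤ (2 : ℕ) ^ (2 * m + 1) := by
      calc 8 = 2 ^ 3 := by norm_num
        _ ≤ 2 ^ (2 * m + 1) := Nat.pow_le_pow_right (by norm_num) (by omega)
    refine not_prime_mul ?_ ?_
    · exact le_trans (by norm_num : 2 ≤ 64 * 7) (Nat.mul_le_mul (by nlinarith) (by omega))
    · nlinarith)
  by_cases h2 : p = 2
  · subst h2
    exact own_sz T I hc hS hd
  · have hpF : (p : F) ≠ 0 := by
      have : Fact (Nat.Prime 2) := ⟨Nat.prime_two⟩
      have : CharP F 2 := charP_of_card_eq_prime_pow hF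
      intro h0
      exact h2 ((Nat.prime_dvd_prime_iff_eq Nat.prime_two hp).1 ((CharP.cast_eq_zero_iff F 2 p).1 h0)).symm
    have h1 := H755.Dl.DlLe_ne (p := p) (F := F) (n := 4) (G := ↥(Lie.Sz F (2 ^ (m + 1))))
      (f := e.symm.toMonoidHom) (ρ := (Lie.Sz F (2 ^ (m + 1))).subtype) hpF e.symm.surjective
      Subtype.val_injective
    exact row_of_dl_two T I hc hp hd (h1.mono (by
      have h3 : 3 ≤ p := by have := hp.two_le; omega
      have : Nat.log p 4 ≤ Nat.log 3 4 := Nat.log_anti_left (by norm_num) h3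
      have h5 : Nat.log 3 4 = 1 := by decide
      omega))

theorem f_ree (T : FactTwo.{u}) (I : H671.H5.FactIM.{u}) : RowF.{u} (fun S => Lie.IsoRee S) := by
  intro S _ _ _ h p hp hd
  have : Fact p.Prime := ⟨hp⟩
  have hS := h
  obtain ⟨K, _, _, m, hm, hF, ⟨e⟩⟩ := h
  have hc : ¬ IsMulCommutative S := not_comm_of_not_prime (by
    obtain ⟨U, h, n, D⟩ := Cfsg.Agent.ChevalleyStructure.Ree.Data.exists_data hF
    rw [Nat.card_congr e.toEquiv, Cfsg.Agent.LieRecognition.ReeSylowThree.card_eq D, hF]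
    have h1 : 2 ≤ (3 : ℕ) ^ (2 * m + 1) := by
      calc 2 ≤ 3 ^ 1 := by norm_num
        _ ≤ 3 ^ (2 * m + 1) := Nat.pow_le_pow_right (by norm_num) (by omega)
    have h8 : 3 ≤ (3 : ℕ) ^ (2 * m + 1) := by
      calc 3 = 3 ^ 1 := by norm_num
        _ ≤ 3 ^ (2 * m + 1) := Nat.pow_le_pow_right (by norm_num) (by omega)
    have h27 : 3 ^ 3 ≤ ((3 : ℕ) ^ (2 * m + 1)) ^ 3 := Nat.pow_le_pow_left h8 3
    refine not_prime_mul ?_ ?_
    · exact le_trans (by norm_num : 2 ≤ 27 * 2) (Nat.mul_le_mul (by omega) (by omega))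
    · omega)
  by_cases h3 : p = 3
  · subst h3
    exact own_ree T I hc hS hd
  · have hle : Cfsg.Lie.twistedG2 K (3 ^ m) ≤ Cfsg.Lie.chevG2.group K :=
      H778.Exc.genSubgroup_le_group (by simp [Cfsg.Agent.ChevalleyStructure.Elts.InList]) (Cfsg.Lie.g2Words K (3 ^ m))
    refine row_of_dl_two T I hc hp hd (H158.DlRows.sub_G2 (F := K) hp ?_
      ((Subgroup.inclusion hle).comp e.toMonoidHom) ?_)
    · rw [hF]
      intro h0
      exact h3 ((Nat.prime_dvd_prime_iff_eq hp Nat.prime_three).1 (hp.dvd_of_dvd_pow h0))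
    · exact (Subgroup.inclusion_injective hle).comp e.injective

end Cfsg.Agent.H152.Dl
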