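import Cfsg.Agent.H152.Dl.Five

/-!
# S4769, `p` the defining characteristic: classical groups, `PSL_2`, `PSU_3`, `Sz`, `Ree` (helper152, task DL-EQ-CLASS)

`S` is any finite simple group with an isomorphism to the group of the family over `F`, `p` a prime divisor of `|F|`.
-/

set_option autoImplicit false
set_option linter.unusedSectionVars false

namespace Cfsg.Agent.H152.Dl

open Cfsg
open Cfsg.Agent.H246.Dl Cfsg.Agent.H596.OneFacts

universe u

theorem charP_of_dvd {F : Type*} [Field F] [Fintype F] {p : ℕ} (hp : p.Prime) (hd : p ∣ Fintype.card F) : CharP F p := by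
  obtain ⟨r, hr⟩ := CharP.exists F
  have hpr : Fact r.Prime := ⟨(CharP.char_is_prime_or_zero F r).resolve_right (CharP.char_ne_zero_of_finite F r)⟩
  obtain ⟨n, -, hn⟩ := FiniteField.card F r
  rw [hn] at hd
  rwa [(Nat.prime_dvd_prime_iff_eq hp hpr.out).1 (hp.dvd_of_dvd_pow hd)]

variable {S : Type u} [Group S] [Finite S] {F : Type} [Field F] [Fintype F] {p : ℕ}

/-- `PSL_n(q)`, `n ≥ 3` -/
theorem own_psl {n : ℕ} (hn : 3 ≤ n) (e : S ≃* Matrix.ProjectiveSpecialLinearGroup (Fin n) F) (hp : p.Prime)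
    (hd : p ∣ Fintype.card F) : Row p S := by
  have : Fact p.Prime := ⟨hp⟩
  have := charP_of_dvd hp hd
  exact Row.of_equiv e (row_psl_eq thetaHyp hn)

/-- `PSp_{2m}(q)`, `q > 2` -/
theorem own_psp {m : ℕ} (hm : 2 ≤ m) (hF : 2 < Fintype.card F) (e : S ≃* PSp m F) (hp : p.Prime)
    (hd : p ∣ Fintype.card F) : Row p S := by
  have : Fact p.Prime := ⟨hp⟩
  have := charP_of_dvd hp hd
  exact Row.of_equiv e (row_psp_eq thetaHyp hm hF)

/-- `PSU_n(q)`, `n ≥ 4` -/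
theorem own_psu {n q : ℕ} (hF : Fintype.card F = q ^ 2) (hn : 4 ≤ n) (e : S ≃* PSU n F q) (hp : p.Prime)
    (hd : p ∣ Fintype.card F) : Row p S := by
  have : Fact p.Prime := ⟨hp⟩
  have := charP_of_dvd hp hd
  by_cases h5 : n = 5
  · subst h5
    exact Row.of_equiv e (row_psu_five' hF)
  · exact Row.of_equiv e (row_psu_eq thetaHyp hF (by omega))

/-- `PΩ_{2m+1}(q)` -/
theorem own_podd {m : ℕ} (hm : 3 ≤ m) (ho : Odd (Fintype.card F)) (e : S ≃* POmega F (quadFormOdd m F)) (hp : p.Prime)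
    (hd : p ∣ Fintype.card F) : Row p S := by
  have : Fact p.Prime := ⟨hp⟩
  have := charP_of_dvd hp hd
  refine Row.of_equiv e (row_podd_eq thetaHyp hm ?_)
  intro h2
  have h3 : CharP F 2 := CharTwo.of_one_ne_zero_of_two_eq_zero one_ne_zero h2
  have hev : 2 ∣ Fintype.card F := by
    obtain ⟨n, -, hn⟩ := FiniteField.card F 2
    rw [hn]
    exact dvd_pow_self 2 n.ne_zero
  exact (Nat.not_even_iff_odd.2 ho) (even_iff_two_dvd.2 hev)

/-- `PΩ⁺_{2m}(q)` -/
theorem own_pplus {m : ℕ} (hm : 4 ≤ m) (e : S ≃* POmega F (quadFormPlus m F)) (hp : p.Prime)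
    (hd : p ∣ Fintype.card F) : Row p S := by
  have : Fact p.Prime := ⟨hp⟩
  have := charP_of_dvd hp hd
  exact Row.of_equiv e (row_pplus_eq thetaHyp hm)

/-- `PΩ⁻_{2m}(q)` -/
theorem own_pminus {m : ℕ} (hm : 4 ≤ m) {a b : F}
    (hab : ∀ z₁ z₂ : F, z₁ ^ 2 + a * z₁ * z₂ + b * z₂ ^ 2 = 0 → z₁ = 0 ∧ z₂ = 0)
    (e : S ≃* POmega F (quadFormMinus (m - 1) F a b)) (hp : p.Prime)
    (hd : p ∣ Fintype.card F) : Row p S := by
  have : Fact p.Prime := ⟨hp⟩
  have := charP_of_dvd hp hd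
  exact Row.of_equiv e (row_pminus_eq thetaHyp hm hab)

section rankOne

variable [IsSimpleGroup S]

/-- `PSL_2(q)` -/
theorem own_l2 (I : H671.H5.FactIM.{u}) (hc : ¬ IsMulCommutative S) (e : S ≃* Matrix.ProjectiveSpecialLinearGroup (Fin 2) F)
    (hp : p.Prime) (hd : p ∣ Fintype.card F) (hS : p ∣ Nat.card S) : Row p S := by
  have : Fact p.Prime := ⟨hp⟩
  have := charP_of_dvd hp hd
  exact H759.Dl.row_of_dl_one I hc hp hS ((dl_psl_two (F := F) (p := p)).of_equiv e)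

/-- `PSU_3(q)` -/
theorem own_u3 (T : FactTwo.{u}) (I : H671.H5.FactIM.{u}) (hc : ¬ IsMulCommutative S) {q : ℕ} (e : S ≃* PSU 3 F q)
    (hp : p.Prime) (hd : p ∣ Fintype.card F) (hS : p ∣ Nat.card S) : Row p S := by
  have : Fact p.Prime := ⟨hp⟩
  have := charP_of_dvd hp hd
  exact H759.Dl.row_of_dl_two T I hc hp hS ((dl_psu_three (F := F) (p := p) q).of_equiv e)

/-- `Sz(q)`, `p = 2` -/
theorem own_sz (T : FactTwo.{u}) (I : H671.H5.FactIM.{u}) (hc : ¬ IsMulCommutative S) (h : Lie.IsoSuzuki S)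
    (hS : 2 ∣ Nat.card S) : Row 2 S :=
  H759.Dl.row_of_dl_two T I hc Nat.prime_two hS (dl_sz h)

/-- `Ree(q)`, `p = 3` -/
theorem own_ree (T : FactTwo.{u}) (I : H671.H5.FactIM.{u}) (hc : ¬ IsMulCommutative S) (h : Lie.IsoRee S)
    (hS : 3 ∣ Nat.card S) : Row 3 S :=
  H759.Dl.row_of_dl_two T I hc Nat.prime_three hS (dl_ree h)

end rankOne

end Cfsg.Agent.H152.Dl
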