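import Cfsg.Agent.H152.Dl.Theta
import Cfsg.Agent.H223.PMinRgd
import Cfsg.Agent.H742.PanU

/-!
# `PSU_5(q)` has three orbits of irreducible characters of degree divisible by `p` (helper152, task DL-EQ-CLASS)
-/

set_option autoImplicit false
set_option linter.unusedSectionVars false

namespace Cfsg.Agent.H152.Dl

open Cfsg CoxeterSystem Cfsg.Agent.ChevalleyStructure.CoxeterGeom Cfsg.Agent.Tits.Roots Cfsg.Agent.Tits.Core
  Cfsg.Agent.Nodes.BNOf Cfsg.Agent.Nodes.Reps Cfsg.Agent.Nodes.Bruhat Cfsg.Agent.Nodes.LeviDec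
  Cfsg.Agent.KFacts.RgdAut Cfsg.Agent.KFacts.RgdDiag
open Cfsg.Agent.Omega.EH3.Kf.Lev
open Cfsg.Agent.H246.Dl

section tau

variable {I W Y : Type*} [Fintype I] [DecidableEq I] [Group W] [Group Y] {M : CoxeterMatrix I}
  {cs : CoxeterSystem M W} {A : I → I → ℤ} {h : IsCartan M A} {p : ℕ} {T : Subgroup Y} {n : I → Y}
  {X : (I → ℤ) → Subgroup Y}

/-- simple root groups of different orders: all automorphisms fix the classes of parabolic subgroups -/
theorem tau_of_card [Finite W] [Finite Y] [Fact p.Prime] (R : RGD cs h p T n X)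
    (hG1 : RGD.Sup X {x | IsRoot cs h x} = ⊤)
    (hs : ∀ i j, i ≠ j → Nat.card (X (sr i)) ≠ Nat.card (X (sr j))) (α : MulAut Y) (J : Set I) :
    ∃ g : Y, (PJ cs h T X J).map α.toMonoidHom = (PJ cs h T X J).map (MulAut.conj g).toMonoidHom := by
  have hG := KFacts.RgdFilt.GG_eq_top (T := T) hG1
  obtain ⟨y, hy⟩ := H211.Dl.exists_conj_fix R hG α
  obtain ⟨τ, hτ⟩ := H211.Dl.exists_perm_PJ R hG (fix_B R hG hy)
  have hmap : ∀ J, (PJ cs h T X J).map (MulAut.conj y * α).toMonoidHom = PJ cs h T X (τ '' J) := by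
    intro J
    ext x
    constructor
    · rintro ⟨z, hz, rfl⟩
      exact (hτ J z).2 hz
    · intro hx
      obtain ⟨z, rfl⟩ := (MulAut.conj y * α).surjective x
      exact ⟨z, (hτ J z).1 hx, rfl⟩
  have hτ1 : ∀ i, τ i = i := by
    intro i
    by_contra hne
    have h1 := hmap {i}
    rw [Set.image_singleton] at h1
    obtain ⟨β, σ, D, hσ⟩ := H223.PMinRgd.exists_diag_of_map R hG1 (fix_iff.1 hy) h1
    refine hs i (τ i) (Ne.symm hne) ?_
    rw [← hσ]
    exact (KFacts.RgdNodes.Diag.card_eq D i).symm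
  have hJ : τ '' J = J := by
    have : (τ : I → I) = id := funext hτ1
    rw [this, Set.image_id]
  refine ⟨y⁻¹, ?_⟩
  have h2 := hmap J
  rw [hJ] at h2
  conv_rhs => rw [← h2, Subgroup.map_map]
  congr 1
  ext x
  simp [mul_assoc]

end tau

section five

open Cfsg.Agent.Nodes
open Cfsg.Agent.Nodes.TypeC Cfsg.Agent.Nodes.Comb Cfsg.Agent.Nodes.WittRoot
  Cfsg.Agent.Nodes.WittAll Cfsg.Agent.Nodes.WittU
open Cfsg.Agent.TitsThree Cfsg.Agent.TitsThree.Siegel Cfsg.Agent.TitsThree.SiegelGen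
  Cfsg.Agent.TitsThree.WittFrame Cfsg.Agent.TitsThree.WBridge Cfsg.Agent.TitsThree.WittWeyl
  Cfsg.Agent.TitsThree.FrameCN Cfsg.Agent.TitsThree.KSideU Cfsg.Agent.TitsThree.KSideUDesc
open Cfsg.Agent.LieClassical.HermBasic
open Cfsg.Agent.H396 Cfsg.Agent.H396.CommTab Cfsg.Agent.Omega.EH3.Kf

/-- `PSU_5(q)`: three orbits of irreducible characters of degree divisible by `p` -/
theorem many_five {F : Type} [Field F] [Fintype F] {q : ℕ} (hF : Fintype.card F = q ^ 2) {p : ℕ} [Fact p.Prime]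
    [CharP F p] : Many p (PSU 5 F q) 3 := by
  obtain ⟨W, d, hd, hW⟩ := exists_wframe_odd (N := 2 * 2 + 1) hF rfl
  obtain ⟨p0, hp0, -⟩ := exists_adm hF W
  have hA := AmbT.of_amb (amb_U hF W) p
  have hWf : Finite (CoxeterMatrix.B 2).Group := TypeC.finite_W (CoxeterMatrix.B 2).toCoxeterSystem
  have hq := two_le hF
  have h1 : Nat.card (toFrame W).Adm = q ^ 3 := by
    have hd0 : d ≠ 0 := by
      rintro rfl
      rw [herm_zero_left] at hd
      exact zero_ne_one hd
    have h1 : Nat.card (toFrame W).V0 = q ^ 2 := by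
      change Nat.card W.V0 = q ^ 2
      rw [hW, ← hF, ← Nat.card_eq_fintype_card]
      exact (Nat.card_congr (LinearEquiv.toSpanNonzeroSingleton F (Fin (2 * 2 + 1) → F) d hd0).toEquiv).symm
    rw [H742.card_adm (toFrame W) h1 (H742.card_ok hF W), ← pow_succ]
  have h2 : Nat.card F = q ^ 2 := by rw [Nat.card_eq_fintype_card, hF]
  have h32 : q ^ 2 ≠ q ^ 3 := by
    have : q ^ 2 < q ^ 3 := Nat.pow_lt_pow_right (by omega) (by norm_num)
    omega
  have R := rgdC_model (KInstU.model hF (by omega) W) hA hp0 (CoxeterMatrix.B 2).toCoxeterSystem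
  have hG1 := WittModel.G1_eq_top (KInstU.model hF (by omega) W) (by norm_num) (CoxeterMatrix.B 2).toCoxeterSystem
  have hC : CommGen (CoxeterMatrix.B 2).toCoxeterSystem (TypeC.isCartan 2)
      (WittModel.X (KInstU.model hF (by omega) W)) := by
    have hGd := UOdd.gd (KInstU.model hF (by omega) W) ⟨d, by
      have h1 : (HU hF (2 * 2 + 1)).h d d = 1 := hd
      rw [h1]
      exact one_ne_zero, exists_ok hF W hW⟩
    exact fun _ hr h0 hs => hGd.gen _ hr h0 hs
  have hG := KFacts.RgdFilt.GG_eq_top (T := WittModel.T (KInstU.model hF (by omega) W)) hG1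
  refine H211.Dl.many_classes R hG hC ?_ (i := 0) (j := 1) (by decide) (tau_of_card R hG1 ?_)
  · intro k l hkl
    fin_cases k <;> fin_cases l <;> first | exact absurd rfl hkl | decide
  · intro k l hkl
    have ha := H742.card_X_of_lt (KInstU.model hF (by omega) W) (i := (0 : Fin 2)) (by norm_num)
    have hb := H742.card_X_last (KInstU.model hF (by omega) W) (i := (1 : Fin 2)) (by norm_num)
    fin_cases k <;> fin_cases l
    · exact absurd rfl hkl
    · change Nat.card (WittModel.X _ (sr (0 : Fin 2))) ≠ Nat.card (WittModel.X _ (sr (1 : Fin 2)))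
      rw [ha, hb, h1, h2]
      exact h32
    · change Nat.card (WittModel.X _ (sr (1 : Fin 2))) ≠ Nat.card (WittModel.X _ (sr (0 : Fin 2)))
      rw [ha, hb, h1, h2]
      exact h32.symm
    · exact absurd rfl hkl

/-- **`PSU_5(q)`** -/
theorem row_psu_five' {F : Type} [Field F] [Fintype F] {q : ℕ} (hF : Fintype.card F = q ^ 2) {p : ℕ} [Fact p.Prime]
    [CharP F p] : Row p (PSU 5 F q) :=
  row_psu_five q (many_five hF)

end five

end Cfsg.Agent.H152.Dl
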