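import Cfsg.Agent.H152.Dl.Final
import Cfsg.Agent.H674.Dl.OrthAll

/-!
# The orthogonal rows of S4769 (helper152, helper674): the fields `odd`, `plus`, `minus` of `H759.Dl.Missing`
-/

set_option autoImplicit false

namespace Cfsg.Agent.H152.Dl

open Cfsg
open Cfsg.Agent.H246.Dl Cfsg.Agent.H596.OneFacts Cfsg.Agent.H674.Dl Cfsg.Agent.H759.Dl

universe u

theorem dvd_card_of_charP {K : Type*} [Field K] [Fintype K] (p : ℕ) [Fact p.Prime] [CharP K p] : p ∣ Fintype.card K := by
  obtain ⟨n, -, hn⟩ := FiniteField.card K p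
  rw [hn]
  exact dvd_pow_self p n.ne_zero

theorem eqOdd : EqOdd.{u} := by
  intro K _ _ p hp _ m hm ho S _ _ _ e
  let _ : Fintype K := Fintype.ofFinite K
  rw [Nat.card_eq_fintype_card] at ho
  exact own_podd hm ho e hp.out (dvd_card_of_charP p)

theorem eqPlus : EqPlus.{u} := by
  intro K _ _ p hp _ m hm S _ _ _ e
  let _ : Fintype K := Fintype.ofFinite K
  exact own_pplus hm e hp.out (dvd_card_of_charP p)

theorem eqMinus : EqMinus.{u} := by
  intro K _ _ p hp _ l a b hab hl S _ _ _ e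
  let _ : Fintype K := Fintype.ofFinite K
  exact own_pminus (m := l + 1) (by omega) hab e hp.out (dvd_card_of_charP p)

theorem rowF_odd (T : FactTwo.{u}) (I : H671.H5.FactIM.{u}) : RowF.{u} (fun S => IsPOmegaOdd S) :=
  H674.Dl.rowF_odd T I eqOdd

theorem rowF_plus (T : FactTwo.{u}) (I : H671.H5.FactIM.{u}) : RowF.{u} (fun S => IsPOmegaPlus S) :=
  H674.Dl.rowF_plus T I eqPlus

theorem rowF_minus (T : FactTwo.{u}) (I : H671.H5.FactIM.{u}) : RowF.{u} (fun S => IsPOmegaMinus S) :=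
  H674.Dl.rowF_minus T I eqMinus

end Cfsg.Agent.H152.Dl
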