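import Cfsg.Agent.H152.Dl.Rows
import Cfsg.Agent.H211.Dl.ThetaRgd

/-!
# `ThetaHyp` (helper152, task DL-EQ-CLASS of S4769)
-/

set_option autoImplicit false
set_option linter.unusedSectionVars false

namespace Cfsg.Agent.H152.Dl

open Cfsg CoxeterSystem Cfsg.Agent.ChevalleyStructure.CoxeterGeom Cfsg.Agent.Tits.Roots Cfsg.Agent.Tits.Core
open Cfsg.Agent.Nodes Cfsg.Agent.Nodes.BNOf Cfsg.Agent.Nodes.Reps Cfsg.Agent.Nodes.Bruhat Cfsg.Agent.Nodes.LeviDec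
open Cfsg.Agent.Omega.EH3.Kf.Lev
open Cfsg.Agent.H246.Dl

theorem thetaHyp : ThetaHyp := by
  intro p l M G _ _ hp hG
  obtain ⟨A, h, T, n, X, -, hW, R, hX, hC, -⟩ := hG
  haveI := hW
  haveI : Fact p.Prime := ⟨hp⟩
  have hGG : GG M.toCoxeterSystem h T X = ⊤ := by
    rw [eq_top_iff, ← hX]
    exact le_sup_right
  have := H211.Dl.many_rank R hGG hC
  rwa [Fintype.card_fin] at this

end Cfsg.Agent.H152.Dl
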